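import Cfsg.Agent.Lib.IsolatedRankOne.Basic

/-! `Good` from its data at one Sylow subgroup. -/

set_option autoImplicit false

namespace Cfsg.Agent.Lib.IsolatedRankOne

variable {p : ℕ} [Fact p.Prime] {R : Type*} [Group R] [Finite R]

theorem mem_smul_iff (g : R) (U : Sylow p R) (x : R) : x ∈ g • U ↔ g⁻¹ * x * g ∈ U := by
  constructor
  · rintro ⟨y, hy, rfl⟩
    show g⁻¹ * (MulAut.conj g y) * g ∈ U
    rwa [MulAut.conj_apply, show g⁻¹ * (g * y * g⁻¹) * g = y by group]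
  · intro h
    exact ⟨g⁻¹ * x * g, h, show MulAut.conj g (g⁻¹ * x * g) = x by rw [MulAut.conj_apply]; group⟩

theorem good_of_base (U₀ V₀ : Sylow p R) (hne : V₀ ≠ U₀)
    (gen : Subgroup.closure {x : R | ∃ k : ℕ, x ^ p ^ k = 1} = ⊤)
    (ti : ∀ V : Sylow p R, V ≠ U₀ → ∀ x, x ∈ U₀ → x ∈ V → x = 1)
    (trans : ∀ V : Sylow p R, V ≠ U₀ → ∃ u ∈ U₀, u • V₀ = V)
    (t c : R) (htU : t • U₀ = U₀) (htV : t • V₀ = V₀) (htp : t ^ (p - 1) ∈ U₀)
    (htf : ∀ x ∈ U₀, t * x = x * t → x = 1) (hc : c • U₀ = U₀)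
    (hgen : ∀ x : R, x • U₀ = U₀ → ∃ i : ℤ, (c ^ i)⁻¹ * x ∈ U₀) : Good p R := by
  have hex : ∀ U : Sylow p R, ∃ g : R, U = g • U₀ := fun U => by
    obtain ⟨g, hg⟩ := MulAction.exists_smul_eq R U₀ U
    exact ⟨g, hg.symm⟩
  refine ⟨?_, gen, ?_, ?_⟩
  · intro U V hUV x hxU hxV
    obtain ⟨g, rfl⟩ := hex U
    have hV : g⁻¹ • V ≠ U₀ := fun e => hUV (by rw [← e, smul_inv_smul])
    have := ti _ hV (g⁻¹ * x * g) ((mem_smul_iff g U₀ x).1 hxU)
      ((mem_smul_iff g⁻¹ V _).2 (by simpa [mul_assoc] using hxV))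
    calc x = g * (g⁻¹ * x * g) * g⁻¹ := by group
      _ = 1 := by rw [this]; group
  · intro U V W hV hW
    obtain ⟨g, rfl⟩ := hex U
    obtain ⟨a, ha, hav⟩ := trans (g⁻¹ • V) fun e => hV (by rw [← e, smul_inv_smul])
    obtain ⟨b, hb, hbw⟩ := trans (g⁻¹ • W) fun e => hW (by rw [← e, smul_inv_smul])
    refine ⟨g * (b * a⁻¹) * g⁻¹, (mem_smul_iff g U₀ _).2 ?_, ?_⟩
    · rw [show g⁻¹ * (g * (b * a⁻¹) * g⁻¹) * g = b * a⁻¹ by group]
      exact Subgroup.mul_mem _ hb (Subgroup.inv_mem _ ha)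
    · rw [mul_smul, mul_smul, mul_smul, ← hav, inv_smul_smul, hbw, smul_inv_smul]
  · intro U
    obtain ⟨g, rfl⟩ := hex U
    have conjfix : ∀ {s : R} {W : Sylow p R}, s • W = W → (g * s * g⁻¹) • g • W = g • W :=
      fun {s W} h => by rw [mul_smul, mul_smul, inv_smul_smul, h]
    refine ⟨g • V₀, fun e => hne (MulAction.injective g e), g * t * g⁻¹, conjfix htU, conjfix htV,
      (mem_smul_iff g U₀ _).2 ?_, ?_, g * c * g⁻¹, conjfix hc, ?_⟩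
    · rw [conj_pow, show g⁻¹ * (g * t ^ (p - 1) * g⁻¹) * g = t ^ (p - 1) by group]
      exact htp
    · intro x hx hcomm
      have := htf _ ((mem_smul_iff g U₀ x).1 hx) (by
        calc t * (g⁻¹ * x * g) = g⁻¹ * (g * t * g⁻¹ * x) * g := by group
          _ = g⁻¹ * (x * (g * t * g⁻¹)) * g := by rw [hcomm]
          _ = g⁻¹ * x * g * t := by group)
      calc x = g * (g⁻¹ * x * g) * g⁻¹ := by group
        _ = 1 := by rw [this]; group
    · intro x hx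
      obtain ⟨i, hi⟩ := hgen (g⁻¹ * x * g) (by rw [mul_smul, mul_smul, hx, inv_smul_smul])
      refine ⟨i, (mem_smul_iff g U₀ _).2 ?_⟩
      rw [conj_zpow, show g⁻¹ * ((g * c ^ i * g⁻¹)⁻¹ * x) * g = (c ^ i)⁻¹ * (g⁻¹ * x * g) by group]
      exact hi

end Cfsg.Agent.Lib.IsolatedRankOne
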