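import Mathlib
import Cfsg.Prelude.Def_Solvable

/-!
A rank one configuration `Good p R`, and the fact that in an extension of it by a `p`-group with
trivial `p`-core, an element of a Sylow `p`-subgroup centralised by its normaliser is trivial.
-/

set_option autoImplicit false

namespace Cfsg.Agent.Lib.IsolatedRankOne

variable {p : ℕ} [Fact p.Prime]

/-- Sylow subgroups meet trivially, one is transitive on the others, they generate, and the normaliser
of one has cyclic top containing an element `t` with `t ^ (p - 1)` unipotent and no fixed points. -/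
structure Good (p : ℕ) [Fact p.Prime] (R : Type*) [Group R] : Prop where
  ti : ∀ U V : Sylow p R, U ≠ V → ∀ x, x ∈ U → x ∈ V → x = 1
  gen : Subgroup.closure {x : R | ∃ k : ℕ, x ^ p ^ k = 1} = ⊤
  trans : ∀ U V W : Sylow p R, V ≠ U → W ≠ U → ∃ u ∈ U, u • V = W
  torus : ∀ U : Sylow p R, ∃ V : Sylow p R, V ≠ U ∧ ∃ t : R, t • U = U ∧ t • V = V ∧ t ^ (p - 1) ∈ U ∧
      (∀ x ∈ U, t * x = x * t → x = 1) ∧
      ∃ c : R, c • U = U ∧ ∀ x : R, x • U = U → ∃ i : ℤ, (c ^ i)⁻¹ * x ∈ U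

/-- An element of `p`-power order normalising a Sylow subgroup lies in it. -/
theorem mem_of_smul_eq {R : Type*} [Group R] (U : Sylow p R) {x : R} {k : ℕ}
    (hx : x ^ p ^ k = 1) (hfix : x • U = U) : x ∈ U := by
  have hP : IsPGroup p (Subgroup.zpowers x) := by
    obtain ⟨m, -, hm⟩ := (Nat.dvd_prime_pow Fact.out).1 (orderOf_dvd_of_pow_eq_one hx)
    exact IsPGroup.of_card (n := m) (by rw [Nat.card_zpowers, hm])
  have hle : Subgroup.zpowers x ≤ Subgroup.normalizer (U : Set R) :=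
    Subgroup.zpowers_le.2 (Sylow.smul_eq_iff_mem_normalizer.1 hfix)
  have h := hP.inf_normalizer_sylow U
  rw [inf_eq_left.2 hle] at h
  exact (h.le (Subgroup.mem_zpowers x)).2

namespace Good

variable {R : Type*} [Group R] [Finite R] (h : Good p R)
include h

/-- Central elements of `p`-power order are trivial. -/
theorem central_eq_one {x : R} (hx : x ∈ Subgroup.center R) {k : ℕ} (hk : x ^ p ^ k = 1) : x = 1 := by
  obtain ⟨U⟩ : Nonempty (Sylow p R) := inferInstance
  obtain ⟨V, hV, -⟩ := h.torus U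
  have hf : ∀ W : Sylow p R, x • W = W := fun W => by
    rw [Sylow.smul_eq_iff_mem_normalizer]
    exact Subgroup.center_le_normalizer _ hx
  exact h.ti V U hV x (mem_of_smul_eq V hk (hf V)) (mem_of_smul_eq U hk (hf U))

theorem map {M : Type*} [Group M] (f : R →* M) (hf : Function.Surjective f)
    (hker : f.ker ≤ Subgroup.center R) : Good p M := by
  have hfin : Finite M := Finite.of_surjective f hf
  have lift : ∀ (U V : Sylow p R) (x y : R), x ∈ U → y ∈ V → f x = f y → x = y := by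
    intro U V x y hx hy hxy
    have hz : y⁻¹ * x ∈ f.ker := by rw [MonoidHom.mem_ker, map_mul, map_inv, hxy, inv_mul_cancel]
    have hc := hker hz
    obtain ⟨a, ha⟩ := U.2 ⟨x, hx⟩
    obtain ⟨b, hb⟩ := V.2 ⟨y, hy⟩
    have ha' : x ^ p ^ a = 1 := congrArg Subtype.val ha
    have hb' : y ^ p ^ b = 1 := congrArg Subtype.val hb
    have hcomm : Commute y x := by
      have := (Subgroup.mem_center_iff.1 hc y)
      show y * x = x * y
      calc y * x = y * (y * (y⁻¹ * x)) := by group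
        _ = y * ((y⁻¹ * x) * y) := by rw [this]
        _ = x * y := by group
    refine (inv_mul_eq_one.1 (h.central_eq_one hc (k := b + a) ?_)).symm
    rw [hcomm.inv_left.mul_pow, inv_pow, pow_add, pow_mul, hb', one_pow, inv_one, one_mul,
      mul_comm, pow_mul, ha', one_pow]
  let μ : Sylow p R → Sylow p M := Sylow.mapSurjective hf
  have hmem : ∀ (U : Sylow p R) (y : M), y ∈ μ U ↔ ∃ x ∈ U, f x = y := fun U y => Iff.rfl
  have hμs : Function.Surjective μ := Sylow.mapSurjective_surjective hf p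
  have hμ1 : ∀ U V, μ U = μ V → U = V := by
    intro U V e
    refine Sylow.ext (U.3 V.2 fun x hx => ?_).symm
    obtain ⟨y, hy, hfy⟩ := (hmem V (f x)).1 (e ▸ (hmem U (f x)).2 ⟨x, hx, rfl⟩)
    exact (lift U V x y hx hy hfy.symm) ▸ hy
  have hμe : ∀ (g : R) (U : Sylow p R), f g • μ U = μ (g • U) := by
    intro g U
    refine Sylow.ext ?_
    ext y
    constructor
    · intro hy
      obtain ⟨y', ⟨x, hx, rfl⟩, rfl⟩ := hy
      exact ⟨g * x * g⁻¹, ⟨x, hx, rfl⟩, by simp [MulAut.conj_apply]⟩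
    · rintro ⟨x', ⟨x, hx, rfl⟩, rfl⟩
      exact ⟨f x, ⟨x, hx, rfl⟩, by simp [MulAut.conj_apply]⟩
  refine ⟨?_, ?_, ?_, ?_⟩
  · intro U' V' hne y hyU hyV
    obtain ⟨U, rfl⟩ := hμs U'
    obtain ⟨V, rfl⟩ := hμs V'
    obtain ⟨a, ha, rfl⟩ := (hmem U y).1 hyU
    obtain ⟨b, hb, hab⟩ := (hmem V _).1 hyV
    have := lift U V a b ha hb hab.symm
    rw [h.ti U V (fun e => hne (e ▸ rfl)) a ha (this ▸ hb), map_one]
  · rw [eq_top_iff, ← MonoidHom.range_eq_top.2 hf, MonoidHom.range_eq_map, ← h.gen,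
      MonoidHom.map_closure]
    apply Subgroup.closure_mono
    rintro _ ⟨x, ⟨k, hk⟩, rfl⟩
    exact ⟨k, by rw [← map_pow, hk, map_one]⟩
  · intro U' V' W' hV hW
    obtain ⟨U, rfl⟩ := hμs U'
    obtain ⟨V, rfl⟩ := hμs V'
    obtain ⟨W, rfl⟩ := hμs W'
    obtain ⟨u, hu, huV⟩ := h.trans U V W (fun e => hV (e ▸ rfl)) (fun e => hW (e ▸ rfl))
    exact ⟨f u, (hmem U _).2 ⟨u, hu, rfl⟩, by rw [hμe, huV]⟩
  · intro U'
    obtain ⟨U, rfl⟩ := hμs U'
    obtain ⟨V, hV, t, htU, htV, htp, htf, c, hc, hgen⟩ := h.torus U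
    refine ⟨μ V, fun e => hV (hμ1 V U e), f t, by rw [hμe, htU], by rw [hμe, htV],
      (hmem U _).2 ⟨_, htp, map_pow f t _⟩, ?_, f c, by rw [hμe, hc], ?_⟩
    · intro y hy hcomm
      obtain ⟨x, hx, rfl⟩ := (hmem U y).1 hy
      have hm : t * x * t⁻¹ ∈ U := by
        have := Sylow.smul_eq_iff_mem_normalizer.1 htU
        exact (Subgroup.mem_normalizer_iff.1 this x).1 hx
      have := lift U U (t * x * t⁻¹) x hm hx (by simp [hcomm])
      rw [htf x hx (mul_inv_eq_iff_eq_mul.1 this), map_one]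
    · intro y hy
      obtain ⟨x, rfl⟩ := hf y
      rw [hμe] at hy
      obtain ⟨i, hi⟩ := hgen x (hμ1 _ _ hy)
      exact ⟨i, (hmem U _).2 ⟨_, hi, by simp⟩⟩

end Good

end Cfsg.Agent.Lib.IsolatedRankOne
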