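import Cfsg.Agent.Lib.IsolatedRankOne.Basic

/-!
If `R` is normal of `p`-power index, `Good p R`, and the `p`-core is trivial, then an element of a
Sylow `p`-subgroup `T` that commutes with the normaliser of `T` is trivial.
-/

set_option autoImplicit false

namespace Cfsg.Agent.Lib.IsolatedRankOne

variable {p : ℕ} [hp : Fact p.Prime] {X : Type*} [Group X] [Finite X]

/-- The intersection of a Sylow subgroup with a normal subgroup is a Sylow subgroup of the latter. -/
theorem exists_sylow_inf (R : Subgroup X) [R.Normal] (T : Sylow p X) :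
    ∃ U : Sylow p R, ∀ x : R, x ∈ U ↔ (x : X) ∈ T := by
  have hP : IsPGroup p ((T : Subgroup X).subgroupOf R) := T.2.comap_subtype
  obtain ⟨U, hU⟩ := hP.exists_le_sylow
  refine ⟨U, fun x => ⟨fun hx => ?_, fun hx => hU hx⟩⟩
  obtain ⟨T', hT'⟩ := (U.2.map R.subtype).exists_le_sylow
  obtain ⟨g, hg⟩ := MulAction.exists_smul_eq X T' T
  -- conjugation by `g` maps `U` injectively into `T ∩ R`
  have hin : ∀ y ∈ U, (MulAut.conjNormal g y : R) ∈ (T : Subgroup X).subgroupOf R := fun y hy => by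
    rw [Subgroup.mem_subgroupOf, MulAut.conjNormal_apply, ← hg]
    exact ⟨_, hT' ⟨y, hy, rfl⟩, rfl⟩
  have hle : (U : Subgroup R) = (T : Subgroup X).subgroupOf R := by
    refine (Subgroup.eq_of_le_of_card_ge hU ?_).symm
    exact Nat.card_le_card_of_injective (fun y : U => (⟨_, hin y y.2⟩ : (T : Subgroup X).subgroupOf R))
      fun a b e => Subtype.ext ((MulAut.conjNormal g).injective (congrArg Subtype.val e))
  exact Subgroup.mem_subgroupOf.1 (hle ▸ hx)

variable {R : Subgroup X} [R.Normal]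

/-- A torus element of order dividing `p - 1` modulo the Sylow subgroup of `R` normalises `T`. -/
theorem torus_smul_eq (T : Sylow p X) (U : Sylow p R) (hU : ∀ x : R, x ∈ U ↔ (x : X) ∈ T)
    {t c : R} (htU : t • U = U) (htp : t ^ (p - 1) ∈ U) (hc : c • U = U)
    (hgen : ∀ x : R, x • U = U → ∃ i : ℤ, (c ^ i)⁻¹ * x ∈ U) : (t : X) • T = T := by
  classical
  rw [Sylow.smul_eq_iff_mem_normalizer] at *
  let N := Subgroup.normalizer (U : Set R)
  let U₀ : Subgroup N := (U : Subgroup R).subgroupOf N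
  haveI : U₀.Normal := Subgroup.normal_in_normalizer
  haveI : Finite (N ⧸ U₀) := inferInstance
  haveI : IsCyclic (N ⧸ U₀) := by
    refine ⟨⟨QuotientGroup.mk (⟨c, hc⟩ : N), fun q => ?_⟩⟩
    obtain ⟨x, rfl⟩ := QuotientGroup.mk_surjective q
    obtain ⟨i, hi⟩ := hgen x (Sylow.smul_eq_iff_mem_normalizer.2 x.2)
    refine ⟨i, ?_⟩
    show (QuotientGroup.mk (⟨c, hc⟩ : N) : N ⧸ U₀) ^ i = _
    rw [← QuotientGroup.mk_zpow, QuotientGroup.eq]
    exact hi
  let Ω := {q : N ⧸ U₀ // q ^ (p - 1) = 1}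
  have h2 := hp.out.two_le
  have hΩ : Nat.card Ω < p := by
    haveI := Fintype.ofFinite (N ⧸ U₀)
    rw [Nat.card_eq_fintype_card, Fintype.card_subtype]
    exact lt_of_le_of_lt (IsCyclic.card_pow_eq_one_le (by omega)) (by omega)
  let x₀ : X ⧸ (T : Subgroup X) := QuotientGroup.mk (t : X)
  have hrep : ∀ q : MulAction.orbit T x₀, ∃ w : Ω, ∃ r : N,
      QuotientGroup.mk r = w.1 ∧ QuotientGroup.mk ((r : R) : X) = q.1 := by
    rintro ⟨q, s, rfl⟩
    have key : ∀ y : R, y ∈ U ↔ (MulAut.conjNormal (s : X) y : R) ∈ U := fun y => by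
      rw [hU, hU, MulAut.conjNormal_apply]
      exact ⟨fun h => Subgroup.mul_mem _ (Subgroup.mul_mem _ s.2 h) (Subgroup.inv_mem _ s.2),
        fun h => by
          have := Subgroup.mul_mem _ (Subgroup.mul_mem _ (Subgroup.inv_mem _ s.2) h) s.2
          rwa [show (s : X)⁻¹ * ((s : X) * (y : X) * (s : X)⁻¹) * s = y by group] at this⟩
    set r : R := MulAut.conjNormal (s : X) t with hr
    have hrN : r ∈ N := by
      refine Subgroup.mem_normalizer_iff.2 fun y => ?_
      obtain ⟨y, rfl⟩ := (MulAut.conjNormal (s : X) : R ≃* R).surjective y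
      rw [hr, ← map_inv, ← map_mul, ← map_mul]
      exact (key y).symm.trans ((Subgroup.mem_normalizer_iff.1 htU y).trans (key _))
    refine ⟨⟨QuotientGroup.mk (⟨r, hrN⟩ : N), ?_⟩, ⟨r, hrN⟩, rfl, ?_⟩
    · rw [← QuotientGroup.mk_pow, QuotientGroup.eq_one_iff]
      show r ^ (p - 1) ∈ U
      rw [hr, ← map_pow]
      exact (key _).1 htp
    · show QuotientGroup.mk (r : X) = (s : X) • (QuotientGroup.mk (t : X) : X ⧸ (T : Subgroup X))
      rw [MulAction.Quotient.smul_mk, smul_eq_mul, QuotientGroup.eq, hr, MulAut.conjNormal_apply]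
      simp [mul_assoc]
  choose w r hw1 hw2 using hrep
  have hinj : Function.Injective w := by
    intro a b e
    apply Subtype.ext
    rw [← hw2 a, ← hw2 b, QuotientGroup.eq]
    have := hw1 a
    rw [e, ← hw1 b, QuotientGroup.eq] at this
    exact (hU _).1 this
  obtain ⟨n, hn⟩ := T.2.card_orbit x₀
  have hn0 : n = 0 := by
    by_contra h0
    have := Nat.card_le_card_of_injective w hinj
    rw [hn] at this
    exact absurd ((Nat.le_self_pow h0 p).trans this) (by omega)
  rw [hn0, pow_zero, Nat.card_eq_one_iff_unique] at hn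
  have hfix : ∀ s ∈ (T : Subgroup X), (t : X)⁻¹ * s * t ∈ (T : Subgroup X) := fun s hs => by
    have := congrArg Subtype.val (hn.1.elim ⟨(⟨s, hs⟩ : T) • x₀, MulAction.mem_orbit _ _⟩
      ⟨x₀, MulAction.mem_orbit_self _⟩)
    have h' : (QuotientGroup.mk (s * t) : X ⧸ (T : Subgroup X)) = QuotientGroup.mk (t : X) := this
    rw [QuotientGroup.eq] at h'
    have := Subgroup.inv_mem _ h'
    simpa [mul_assoc] using this
  refine Subgroup.mem_normalizer_iff''.2 fun x => ⟨hfix x, fun hx => ?_⟩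
  obtain ⟨y, hy⟩ := Finite.surjective_of_injective
    (f := fun y : (T : Subgroup X) => (⟨_, hfix y y.2⟩ : (T : Subgroup X)))
    (fun a b e => Subtype.ext (by simpa using congrArg Subtype.val e)) ⟨_, hx⟩
  have : (y : X) = x := by simpa using congrArg Subtype.val hy
  exact this ▸ y.2

/-- Main lemma. -/
theorem eq_one (hidx : IsPGroup p (X ⧸ R)) (hG : Good p R) (hcore : Cfsg.pCore p X = ⊥)
    (T : Sylow p X) {z : X} (hzT : z ∈ T)
    (hz : ∀ n ∈ Subgroup.normalizer (T : Set X), z * n = n * z) : z = 1 := by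
  obtain ⟨U, hU⟩ := exists_sylow_inf R T
  obtain ⟨V, hVU, t, htU, htV, htp, htf, c, hc, hgen⟩ := hG.torus U
  have hztX : z * (t : X) = (t : X) * z :=
    hz _ (Sylow.smul_eq_iff_mem_normalizer.1 (torus_smul_eq T U hU htU htp hc hgen))
  have hzT' : ∀ s ∈ (T : Subgroup X), z * s = s * z := fun s hs => hz _ (Subgroup.le_normalizer hs)
  obtain ⟨φ, hφc⟩ : ∃ φ : R ≃* R, ∀ y : R, (φ y : X) = z * y * z⁻¹ :=
    ⟨MulAut.conjNormal z, fun y => MulAut.conjNormal_apply _ _⟩
  have hφt : φ t = t := Subtype.ext (by rw [hφc, hztX, mul_inv_cancel_right])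
  have hφU : ∀ u ∈ U, φ u = u := fun u hu =>
    Subtype.ext (by rw [hφc, hzT' _ ((hU u).1 hu), mul_inv_cancel_right])
  let μ : Sylow p R → Sylow p R := Sylow.mapSurjective (f := φ.toMonoidHom) φ.surjective
  have hμm : ∀ (W : Sylow p R) (y : R), y ∈ μ W ↔ φ.symm y ∈ W := fun W y => by
    constructor
    · rintro ⟨x, hx, rfl⟩; simpa using hx
    · exact fun hy => ⟨_, hy, φ.apply_symm_apply y⟩
  have hμe : ∀ (g : R) (W : Sylow p R), μ (g • W) = φ g • μ W := by
    intro g W
    refine Sylow.ext ?_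
    ext y
    constructor
    · rintro ⟨y', ⟨x, hx, rfl⟩, rfl⟩
      exact ⟨φ x, ⟨x, hx, rfl⟩, by simp [MulAut.conj_apply]⟩
    · rintro ⟨y', ⟨x, hx, rfl⟩, rfl⟩
      exact ⟨g * x * g⁻¹, ⟨x, hx, rfl⟩, by simp [MulAut.conj_apply]⟩
  have hμi : ∀ W W', μ W = μ W' → W = W' := fun W W' e => Sylow.ext <| by
    ext y
    have := (hμm W (φ y)).symm.trans ((e ▸ Iff.rfl : φ y ∈ μ W ↔ φ y ∈ μ W').trans (hμm W' (φ y)))
    show y ∈ W ↔ y ∈ W'
    rwa [φ.symm_apply_apply] at this
  have hμU : μ U = U := Sylow.ext <| by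
    ext y
    refine (hμm U y).trans ⟨fun hy => ?_, fun hy => ?_⟩
    · have := hφU _ hy
      rw [φ.apply_symm_apply] at this
      exact this ▸ hy
    · rw [show φ.symm y = y from φ.symm_apply_eq.2 (hφU y hy).symm]
      exact hy
  -- `z` fixes `V`
  have hμV : μ V = V := by
    obtain ⟨u, hu, huV⟩ := hG.trans U V (μ V) hVU fun e => hVU (hμi _ _ (e.trans hμU.symm))
    have htu : t * u * t⁻¹ ∈ U :=
      (Subgroup.mem_normalizer_iff.1 (Sylow.smul_eq_iff_mem_normalizer.1 htU) u).1 hu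
    have hfix : (t * u * t⁻¹) • V = u • V := by
      calc (t * u * t⁻¹) • V = t • (u • (t⁻¹ • V)) := by rw [mul_smul, mul_smul]
        _ = t • μ V := by rw [inv_smul_eq_iff.2 htV.symm, huV]
        _ = μ (t • V) := by rw [hμe, hφt]
        _ = u • V := by rw [htV, huV]
    have hd : u⁻¹ * (t * u * t⁻¹) ∈ U := Subgroup.mul_mem _ (Subgroup.inv_mem _ hu) htu
    obtain ⟨k, hk⟩ := U.2 ⟨_, hd⟩
    have := hG.ti U V (Ne.symm hVU) _ hd
      (mem_of_smul_eq V (congrArg Subtype.val hk) (by rw [mul_smul, hfix, inv_smul_smul]))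
    have hu1 : u = 1 := htf u hu (mul_inv_eq_iff_eq_mul.1 (inv_mul_eq_one.1 this).symm)
    rw [← huV, hu1, one_smul]
  -- hence every Sylow subgroup
  have hμall : ∀ W, μ W = W := by
    intro W
    rcases eq_or_ne W U with rfl | hW
    · exact hμU
    obtain ⟨u, hu, rfl⟩ := hG.trans U V W hVU hW
    rw [hμe, hφU u hu, hμV]
  -- hence every element of `p`-power order
  have hφp : ∀ (W : Sylow p R) (v : R), v ∈ W → φ v = v := by
    intro W v hv
    rcases eq_or_ne W U with rfl | hW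
    · exact hφU v hv
    have hφv : φ v ∈ W := by
      have := (hμm W (φ v)).2 (by simpa using hv)
      rwa [hμall W] at this
    have hd : v⁻¹ * φ v ∈ W := Subgroup.mul_mem _ (Subgroup.inv_mem _ hv) hφv
    obtain ⟨k, hk⟩ := W.2 ⟨_, hd⟩
    have hdU : v⁻¹ * φ v ∈ U := by
      refine mem_of_smul_eq U (congrArg Subtype.val hk) ?_
      rw [mul_smul, inv_smul_eq_iff]
      calc φ v • U = φ v • μ U := by rw [hμU]
        _ = μ (v • U) := (hμe v U).symm
        _ = v • U := hμall _
    exact (inv_mul_eq_one.1 (hG.ti W U hW _ hd hdU)).symm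
  have hφid : ∀ y : R, φ y = y := by
    intro y
    have hy : y ∈ Subgroup.closure {x : R | ∃ k : ℕ, x ^ p ^ k = 1} := hG.gen ▸ Subgroup.mem_top y
    induction hy using Subgroup.closure_induction with
    | mem x hx =>
      obtain ⟨k, hk⟩ := hx
      have hP : IsPGroup p (Subgroup.zpowers x) := by
        obtain ⟨m, -, hm⟩ := (Nat.dvd_prime_pow hp.out).1 (orderOf_dvd_of_pow_eq_one hk)
        exact IsPGroup.of_card (n := m) (by rw [Nat.card_zpowers, hm])
      obtain ⟨W, hW⟩ := hP.exists_le_sylow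
      exact hφp W x (hW (Subgroup.mem_zpowers x))
    | one => exact map_one _
    | mul a b _ _ ha hb => rw [map_mul, ha, hb]
    | inv a _ ha => rw [map_inv, ha]
  -- the centraliser of `R` is nilpotent, so `z` is in the `p`-core
  set C := Subgroup.centralizer (R : Set X) with hC
  haveI : C.Normal := Subgroup.normal_centralizer
  have hzC : z ∈ C := Subgroup.mem_centralizer_iff.2 fun y hy => by
    have h' : z * y * z⁻¹ = y := by
      have := congrArg Subtype.val (hφid ⟨y, hy⟩)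
      rwa [hφc] at this
    exact (mul_inv_eq_iff_eq_mul.1 h').symm
  haveI : Group.IsNilpotent (X ⧸ R) := hidx.isNilpotent
  haveI : Group.IsNilpotent C := by
    let f : C →* X ⧸ R := (QuotientGroup.mk' R).comp C.subtype
    refine Subgroup.isNilpotent_of_ker_le_center f ?_
    intro x hx
    have hxR : (x : X) ∈ R := (QuotientGroup.eq_one_iff _).1 hx
    exact Subgroup.mem_center_iff.2 fun y => Subtype.ext
      ((Subgroup.mem_centralizer_iff.1 y.2 x hxR).symm)
  obtain ⟨k, hk⟩ := T.2 ⟨z, hzT⟩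
  have hP : IsPGroup p (Subgroup.zpowers (⟨z, hzC⟩ : C)) := by
    obtain ⟨m, -, hm⟩ := (Nat.dvd_prime_pow hp.out).1
      (orderOf_dvd_of_pow_eq_one (show (⟨z, hzC⟩ : C) ^ p ^ k = 1 from
        Subtype.ext (congrArg Subtype.val hk : _)))
    exact IsPGroup.of_card (n := m) (by rw [Nat.card_zpowers, hm])
  obtain ⟨P, hPle⟩ := hP.exists_le_sylow
  haveI hPn : (P : Subgroup C).Normal := inferInstance
  haveI : (P : Subgroup C).Characteristic := P.characteristic_of_normal hPn
  have hmem : z ∈ (P : Subgroup C).map C.subtype := ⟨_, hPle (Subgroup.mem_zpowers _), rfl⟩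
  have : (P : Subgroup C).map C.subtype ≤ Cfsg.pCore p X :=
    le_sSup ⟨inferInstance, P.2.map _⟩
  simpa [hcore] using this hmem

end Cfsg.Agent.Lib.IsolatedRankOne
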