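import Cfsg.Agent.Lib.IsolatedRankOne.Base
import Cfsg.Agent.Lib.LinGroup.SLTwoSylow

/-! `SL₂` in its own characteristic `p ≥ 5` is a rank one configuration. -/

set_option autoImplicit false

namespace Cfsg.Agent.Lib.IsolatedRankOne

open Matrix LinGroup

variable {F : Type*} [Field F] [Fintype F] {p : ℕ} [hp : Fact p.Prime] [CharP F p]

omit [Fintype F] in
theorem two_facts (h5 : 5 ≤ p) : (2 : F) ≠ 0 ∧ (2 : F) ≠ 1 ∧ (2 : F) ^ 2 ≠ 1 ∧
    ((2 : ℕ) : F) ^ (p - 1) = 1 := by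
  have hne : ∀ n : ℕ, 0 < n → n < p → (n : F) ≠ 0 := fun n h0 hn h => by
    rw [CharP.cast_eq_zero_iff F p] at h
    exact absurd (Nat.le_of_dvd h0 h) (by omega)
  have h2 := hne 2 (by norm_num) (by omega)
  have h3 := hne 3 (by norm_num) (by omega)
  push_cast at h2 h3
  refine ⟨h2, fun h => one_ne_zero (α := F) (by linear_combination h), fun h => h3 (by linear_combination h), ?_⟩
  have h2' : ((2 : ℕ) : ZMod p) ≠ 0 := fun h => by
    rw [ZMod.natCast_eq_zero_iff] at h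
    exact absurd (Nat.le_of_dvd (by norm_num) h) (by omega)
  have := congrArg (ZMod.castHom (dvd_refl p) F) (ZMod.pow_card_sub_one_eq_one h2')
  rw [map_pow, map_one, map_natCast] at this
  exact this

theorem good_SL (h5 : 5 ≤ p) : Good p (SpecialLinearGroup (Fin 2) F) := by
  obtain ⟨h20, h21, h24, h2p⟩ := two_facts (F := F) h5
  set U₀ : Sylow p (SpecialLinearGroup (Fin 2) F) := upperSylow p with hU₀
  have hU : ∀ x, x ∈ U₀ ↔ ∃ a, x = SL2.upper a := fun x => mem_upperSub_iff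
  have hborel : ∀ g : SpecialLinearGroup (Fin 2) F, g 1 0 = 0 → g • U₀ = U₀ := by
    intro g hg
    rw [Sylow.smul_eq_iff_mem_normalizer]
    refine Subgroup.mem_normalizer_iff_map_conj_eq.2 (Subgroup.eq_of_le_of_card_ge ?_ ?_)
    · rintro _ ⟨x, hx, rfl⟩
      obtain ⟨a, rfl⟩ := (hU x).1 hx
      exact (hU _).2 ⟨_, borel_normalizes_upperSub hg a⟩
    · exact (Nat.card_congr (Subgroup.equivMapOfInjective _ _ (MulAut.conj g).injective).toEquiv).le
  have hnb : ∀ g : SpecialLinearGroup (Fin 2) F, g • U₀ = U₀ → g 1 0 = 0 := by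
    intro g hg
    have h1 : SL2.upper (1 : F) ∈ g⁻¹ • U₀ := by
      rw [inv_smul_eq_iff.2 hg.symm]; exact (hU _).2 ⟨1, rfl⟩
    rw [mem_smul_iff, inv_inv] at h1
    obtain ⟨b, hb⟩ := (hU _).1 h1
    have := congrArg (fun x : SpecialLinearGroup (Fin 2) F => x 1 0) hb
    simp only [SL2.mul_10, SL2.mul_11, SL2.inv_00, SL2.inv_10, SL2.upper_00, SL2.upper_01,
      SL2.upper_10, SL2.upper_11] at this
    have hsq : g 1 0 * g 1 0 = 0 := by linear_combination (-1 : F) * this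
    exact mul_self_eq_zero.1 hsq
  set V₀ := (SL2.weyl : SpecialLinearGroup (Fin 2) F) • U₀ with hV₀
  refine good_of_base U₀ V₀ ?_ ?_ ?_ ?_ (SL2.diag (Units.mk0 2 h20))
    (SL2.diag (IsCyclic.exists_generator (α := Fˣ)).choose) (hborel _ (by simp)) ?_ ?_ ?_ (hborel _ (by simp)) ?_
  · intro e
    have := hnb _ e
    simp at this
  · rw [eq_top_iff]
    refine (closure_upper_lower ?_ ?_).ge <;> intro a <;> refine Subgroup.subset_closure ⟨1, ?_⟩
    · rw [pow_one, SL2.upper_pow, CharP.cast_eq_zero, zero_mul, SL2.upper_zero]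
    · rw [pow_one, SL2.lower_pow, CharP.cast_eq_zero, zero_mul, SL2.lower_zero]
  · intro V hV x hx hxV
    obtain ⟨g, rfl⟩ := MulAction.exists_smul_eq (SpecialLinearGroup (Fin 2) F) U₀ V
    have hg : g 1 0 ≠ 0 := fun h => hV (hborel g h)
    obtain ⟨a, rfl⟩ := (hU x).1 hx
    rw [mem_smul_iff] at hxV
    obtain ⟨b, hb⟩ := (hU _).1 hxV
    have := congrArg (fun x : SpecialLinearGroup (Fin 2) F => x 1 0) hb
    simp only [SL2.mul_10, SL2.mul_11, SL2.inv_10, SL2.inv_11, SL2.upper_00, SL2.upper_01,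
      SL2.upper_10, SL2.upper_11] at this
    have h0 : a * (g 1 0 * g 1 0) = 0 := by linear_combination (-1 : F) * this
    rw [(mul_eq_zero.1 h0).resolve_right (mul_ne_zero hg hg), SL2.upper_zero]
  · intro V hV
    obtain ⟨g, rfl⟩ := MulAction.exists_smul_eq (SpecialLinearGroup (Fin 2) F) U₀ V
    have hg : g 1 0 ≠ 0 := fun h => hV (hborel g h)
    refine ⟨SL2.upper (g 0 0 / g 1 0), (hU _).2 ⟨_, rfl⟩, ?_⟩
    have hh : (SL2.weyl⁻¹ * (SL2.upper (-(g 0 0 / g 1 0)) * g)) • U₀ = U₀ := by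
      refine hborel _ ?_
      simp [SL2.mul_10, SL2.mul_00, SL2.inv_10, SL2.inv_11]
      field_simp
      ring
    rw [mul_smul, inv_smul_eq_iff, mul_smul, ← SL2.upper_inv, inv_smul_eq_iff] at hh
    exact hh.symm
  · rw [hV₀, ← mul_smul, ← inv_smul_eq_iff, ← mul_smul]
    refine hborel _ ?_
    simp [SL2.mul_10, SL2.mul_00, SL2.mul_11, SL2.inv_10, SL2.inv_11]
  · have : (SL2.diag (Units.mk0 (2 : F) h20)) ^ (p - 1) = 1 := by
      show SL2.diagHom (Units.mk0 (2 : F) h20) ^ (p - 1) = 1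
      rw [← map_pow, show (Units.mk0 (2 : F) h20) ^ (p - 1) = 1 from Units.ext (by simpa using h2p), map_one]
    rw [this]; exact Subgroup.one_mem _
  · intro x hx hcomm
    obtain ⟨a, rfl⟩ := (hU x).1 hx
    have := congrArg (fun x : SpecialLinearGroup (Fin 2) F => x 0 1) hcomm
    simp [SL2.mul_01] at this
    have h0 : ((2 : F) ^ 2 - 1) * a = 0 := by
      field_simp at this
      linear_combination this
    rw [(mul_eq_zero.1 h0).resolve_left (sub_ne_zero.2 h24), SL2.upper_zero]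
  · intro x hx
    have h10 := hnb x hx
    have hd := SL2.det_entries x
    rw [h10, mul_zero, sub_zero] at hd
    obtain ⟨i, hi⟩ := Subgroup.mem_zpowers_iff.1
      ((IsCyclic.exists_generator (α := Fˣ)).choose_spec (Units.mk0 (x 0 0) (left_ne_zero_of_mul_eq_one hd)))
    refine ⟨i, (hU _).2 ⟨x 0 1 * x 1 1, ?_⟩⟩
    rw [show SL2.diag (IsCyclic.exists_generator (α := Fˣ)).choose ^ i
      = SL2.diag (Units.mk0 (x 0 0) (left_ne_zero_of_mul_eq_one hd)) by rw [← hi]; exact (map_zpow SL2.diagHom _ _).symm]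
    rw [SL2.diag_inv]
    have h11 : x 1 1 = (x 0 0)⁻¹ := eq_inv_of_mul_eq_one_right hd
    apply SL2.ext_entries <;>
      simp [SL2.mul_00, SL2.mul_01, SL2.mul_10, SL2.mul_11, h10, h11, left_ne_zero_of_mul_eq_one hd,
        mul_comm]

end Cfsg.Agent.Lib.IsolatedRankOne
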