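import Cfsg.Agent.Lib.IsolatedRankOne.Base
import Cfsg.Agent.Lib.IsolatedRankOne.SL
import Cfsg.Agent.Lib.QdP.UnitaryThree
import Cfsg.Agent.Lib.Classical.UnitaryStandard
import Cfsg.Agent.Lib.MinIndexUnitary.Counts
import Cfsg.Agent.Lib.Classical.UnitaryOrder

/-! `SU₃` in its own characteristic `p ≥ 5` is a rank one configuration. -/

set_option autoImplicit false

namespace Cfsg.Agent.Lib.IsolatedRankOne

open Matrix Cfsg.Agent.Lib.QdP.Unitary

variable {F : Type*} [Field F] [Fintype F] {p : ℕ} [hp : Fact p.Prime] [CharP F p] {q : ℕ}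
  (hF : Fintype.card F = q ^ 2)
include hF

omit [CharP F p] hp in
theorem card_SU_three :
    Nat.card ↥(Cfsg.SU 3 F q) = q ^ 3 * ((q ^ 2 - 1) * (q ^ 3 + 1)) := by
  have h := Classical.succ_mul_natCard_SU (F := F) hF 3 (by norm_num)
  rw [Classical.natCard_GU hF 3] at h
  simp [Finset.prod_range_succ, Nat.even_iff] at h
  refine Nat.eq_of_mul_eq_mul_left (show 0 < q + 1 by omega) (h.trans ?_)
  ring

omit [CharP F p] hp in
theorem herm_smul (v : Fin 3 → F) (c : F) (x : Fin 3 → F) :
    herm q (c • v) x = c ^ q * herm q v x := by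
  simp [herm_apply, Cfsg.hermForm, mul_pow, Finset.mul_sum]
  exact Finset.sum_congr rfl fun i _ => by ring

omit [CharP F p] hp in
/-- Number of isotropic vectors with product `1` with a given one. -/
theorem card_partner {v : Fin 3 → F} (hv0 : v ≠ 0) (hvv : herm q v v = 0) :
    Nat.card {u : Fin 3 → F // herm q u u = 0 ∧ herm q v u = 1} = q ^ 3 := by
  classical
  set Ω := {u : Fin 3 → F // herm q u u = 0 ∧ herm q v u = 1} with hΩ
  have hq := Forms.two_le_of_card_sq hF
  have hq0 : q ≠ 0 := by omega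
  let I := {x : Fin 3 → F // Cfsg.hermForm 3 F q x x = 0}
  have e : I ≃ F ⊕ (Fˣ × Ω) :=
    { toFun := fun x => if h : herm q v x.1 = 0 then Sum.inl ((proportional hF hv0 hvv x.2 h).choose)
        else Sum.inr (Units.mk0 _ h, ⟨(herm q v x.1)⁻¹ • x.1, by
          rw [map_smul, herm_smul hF, smul_eq_mul,
            show herm q x.1 x.1 = 0 from x.2, mul_zero, mul_zero],
          by rw [map_smul, smul_eq_mul, inv_mul_cancel₀ h]⟩)
      invFun := Sum.elim (fun c => ⟨c • v, by
          show herm q (c • v) (c • v) = 0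
          rw [map_smul, herm_smul hF, hvv, mul_zero, smul_zero]⟩)
        (fun cu => ⟨(cu.1 : F) • cu.2.1, by
          show herm q ((cu.1 : F) • cu.2.1) ((cu.1 : F) • cu.2.1) = 0
          rw [map_smul, herm_smul hF, cu.2.2.1, mul_zero, smul_zero]⟩)
      left_inv := fun x => by
        by_cases h : herm q v x.1 = 0
        · simp only [dif_pos h, Sum.elim_inl]
          exact Subtype.ext (proportional hF hv0 hvv x.2 h).choose_spec.symm
        · simp only [dif_neg h, Sum.elim_inr]
          exact Subtype.ext (smul_inv_smul₀ h x.1)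
      right_inv := by
        rintro (c | ⟨c, u⟩)
        · simp only [Sum.elim_inl]
          have h : herm q v (c • v) = 0 := by rw [map_smul, hvv, smul_zero]
          refine (dif_pos h).trans (congrArg Sum.inl ?_)
          have := (proportional hF hv0 hvv (u := c • v)
            (by rw [map_smul, herm_smul hF, hvv, mul_zero, smul_zero]) h).choose_spec
          exact smul_left_injective F hv0 this.symm
        · simp only [Sum.elim_inr]
          have h : herm q v ((c : F) • u.1) = c := by rw [map_smul, u.2.2, smul_eq_mul, mul_one]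
          refine (dif_neg (by rw [h]; exact c.ne_zero)).trans (congrArg Sum.inr ?_)
          refine Prod.ext (Units.ext h) (Subtype.ext ?_)
          show (herm q v ((c : F) • u.1))⁻¹ • ((c : F) • u.1) = u.1
          rw [h, inv_smul_smul₀ c.ne_zero] }
  have hc := Nat.card_congr e
  rw [MinIndexUnitary.isoCount_eq hF, Nat.card_sum, Nat.card_prod, MinIndexUnitary.natCard_units_field hF,
    MinIndexUnitary.natCard_field hF] at hc
  simp only [MinIndexUnitary.pointNum] at hc
  have h4 : 1 ≤ q ^ 2 := Nat.one_le_pow _ _ (by omega)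
  refine Nat.eq_of_mul_eq_mul_left (show 0 < q ^ 2 - 1 by have := Nat.pow_le_pow_left hq 2; omega) ?_
  zify [h4] at hc ⊢
  linear_combination -hc

omit [CharP F p] hp in
/-- An element fixing a hyperbolic pair is trivial. -/
theorem eq_one_of_fix (y : Cfsg.SU 3 F q) {v u : Fin 3 → F} (hvv : herm q v v = 0) (huu : herm q u u = 0)
    (hvu : herm q v u = 1) (hv : act y v = v) (hu : act y u = u) : y = 1 := by
  have huv : herm q u v = 1 := by rw [herm_symm hF, hvu, one_pow]
  obtain ⟨w, hw, hw0⟩ := Submodule.exists_mem_ne_zero_of_ne_bot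
    (LinearMap.ker_ne_bot_of_finrank_lt (f := (herm q v).prod (herm q u))
      (by rw [Module.finrank_prod, Module.finrank_self, Module.finrank_fintype_fun_eq_card, Fintype.card_fin]; norm_num))
  simp only [LinearMap.mem_ker, LinearMap.prod_apply, Function.prod_apply, Prod.mk_eq_zero] at hw
  let b : Fin 3 → Fin 3 → F := ![v, u, w]
  have hli : LinearIndependent F b := by
    rw [Fintype.linearIndependent_iff]
    intro g hg
    simp only [b, Fin.sum_univ_three, Matrix.cons_val] at hg
    have h1 := congrArg (herm q v) hg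
    have h0 := congrArg (herm q u) hg
    simp [hvv, hvu, hw.1] at h1
    simp [huu, huv, hw.2] at h0
    rw [h1, h0, zero_smul, zero_smul, zero_add, zero_add, smul_eq_zero] at hg
    intro i; fin_cases i
    · exact h0
    · exact h1
    · exact hg.resolve_right hw0
  -- the image of `w`
  obtain ⟨μ, hμ⟩ : ∃ μ : F, act y w = μ • w := by
    obtain ⟨c0, c1, c2, hsum⟩ : ∃ c0 c1 c2 : F, c0 • v + c1 • u + c2 • w = act y w := by
      let bb := basisOfLinearIndependentOfCardEqFinrank hli (by simp)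
      have hsum := bb.sum_repr (act y w)
      simp only [bb, coe_basisOfLinearIndependentOfCardEqFinrank, b, Fin.sum_univ_three,
        Matrix.cons_val] at hsum
      exact ⟨_, _, _, hsum⟩
    have h1 : herm q v (act y w) = 0 := by
      have := herm_act y w v; rw [hv] at this; rw [this, hw.1]
    have h2 : herm q u (act y w) = 0 := by
      have := herm_act y w u; rw [hu] at this; rw [this, hw.2]
    rw [← hsum] at h1 h2
    simp [hvv, hvu, hw.1] at h1
    simp [huu, huv, hw.2] at h2
    refine ⟨c2, ?_⟩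
    rw [← hsum, h1, h2, zero_smul, zero_smul, zero_add, zero_add]
  let B : Matrix (Fin 3) (Fin 3) F := fun i j => b j i
  have hB : IsUnit B := Matrix.linearIndependent_cols_iff_isUnit.1 hli
  have hcol : (y.1.1 : Matrix (Fin 3) (Fin 3) F) * B = B * Matrix.diagonal ![1, 1, μ] := by
    ext i j
    rw [Matrix.mul_diagonal]
    have hact : ∀ x : Fin 3 → F, ((y.1.1 : Matrix (Fin 3) (Fin 3) F) *ᵥ x) i = act y x i := fun _ => rfl
    show ((y.1.1 : Matrix (Fin 3) (Fin 3) F) *ᵥ b j) i = b j i * _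
    rw [hact]
    fin_cases j
    · show act y v i = v i * 1
      rw [hv, mul_one]
    · show act y u i = u i * 1
      rw [hu, mul_one]
    · show act y w i = w i * μ
      rw [hμ, Pi.smul_apply, smul_eq_mul, mul_comm]
  have hdet := congrArg Matrix.det hcol
  rw [Matrix.det_mul, Matrix.det_mul, Matrix.det_diagonal, y.1.2, one_mul, Fin.prod_univ_three] at hdet
  have hμ1 : μ = 1 := by
    have h' : B.det * 1 = B.det * μ := by simpa using hdet
    exact (mul_left_cancel₀ ((Matrix.isUnit_iff_isUnit_det _).1 hB).ne_zero h').symm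
  apply Subtype.ext; apply Subtype.ext
  refine hB.mul_left_inj.1 ?_
  show (y.1.1 : Matrix (Fin 3) (Fin 3) F) * B = (1 : Matrix (Fin 3) (Fin 3) F) * B
  rw [hcol, hμ1, one_mul]
  have : Matrix.diagonal ![(1 : F), 1, 1] = 1 := by
    rw [← Matrix.diagonal_one]; congr 1; funext i; fin_cases i <;> rfl
  rw [this, mul_one]

omit [CharP F p] hp in
/-- The torus element of a scalar fixed by `x ↦ x ^ q`. -/
theorem exists_torus_elt {v u : Fin 3 → F} (hvv : herm q v v = 0) (huu : herm q u u = 0)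
    (hvu : herm q v u = 1) {a : F} (ha : a ≠ 0) (haq : a ^ q = a) :
    ∃ t : Cfsg.SU 3 F q, ∀ x, act t x = x + ((a - 1) * herm q u x) • v + ((a⁻¹ - 1) * herm q v x) • u := by
  have huv : herm q u v = 1 := by rw [herm_symm hF, hvu, one_pow]
  let M : Matrix (Fin 3) (Fin 3) F :=
    1 + (a - 1) • Matrix.vecMulVec v (fun j => u j ^ q) + (a⁻¹ - 1) • Matrix.vecMulVec u (fun j => v j ^ q)
  have hM : ∀ x, M *ᵥ x = x + ((a - 1) * herm q u x) • v + ((a⁻¹ - 1) * herm q v x) • u := by
    intro x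
    simp only [M, add_mulVec, one_mulVec, smul_mulVec, vecMulVec_mulVec]
    funext i
    simp [herm_apply, Cfsg.hermForm, dotProduct, Fin.sum_univ_three]
    ring
  obtain ⟨w, hw, hw0⟩ := Submodule.exists_mem_ne_zero_of_ne_bot
    (LinearMap.ker_ne_bot_of_finrank_lt (f := (herm q v).prod (herm q u))
      (by rw [Module.finrank_prod, Module.finrank_self, Module.finrank_fintype_fun_eq_card, Fintype.card_fin]; norm_num))
  simp only [LinearMap.mem_ker, LinearMap.prod_apply, Function.prod_apply, Prod.mk_eq_zero] at hw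
  let b : Fin 3 → Fin 3 → F := ![v, u, w]
  have hli : LinearIndependent F b := by
    rw [Fintype.linearIndependent_iff]
    intro g hg
    simp only [b, Fin.sum_univ_three, Matrix.cons_val] at hg
    have h1 := congrArg (herm q v) hg
    have h0 := congrArg (herm q u) hg
    simp [hvv, hvu, hw.1] at h1
    simp [huu, huv, hw.2] at h0
    rw [h1, h0, zero_smul, zero_smul, zero_add, zero_add, smul_eq_zero] at hg
    intro i; fin_cases i
    · exact h0
    · exact h1
    · exact hg.resolve_right hw0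
  let B : Matrix (Fin 3) (Fin 3) F := fun i j => b j i
  have hB : IsUnit B := Matrix.linearIndependent_cols_iff_isUnit.1 hli
  have hcol : M * B = B * Matrix.diagonal ![a, a⁻¹, 1] := by
    ext i j
    rw [Matrix.mul_diagonal]
    show (M *ᵥ b j) i = b j i * _
    rw [hM]
    fin_cases j <;> simp [b, hvv, hvu, huu, huv, hw.1, hw.2] <;> ring
  have hdet : M.det = 1 := by
    have := congrArg Matrix.det hcol
    rw [Matrix.det_mul, Matrix.det_mul, Matrix.det_diagonal, Fin.prod_univ_three] at this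
    refine mul_right_cancel₀ ((Matrix.isUnit_iff_isUnit_det _).1 hB).ne_zero (this.trans ?_)
    simp [ha]
  have hform : ∀ x y, Cfsg.hermForm 3 F q (M *ᵥ x) (M *ᵥ y) = Cfsg.hermForm 3 F q x y := by
    intro x y
    show herm q (M *ᵥ y) (M *ᵥ x) = herm q y x
    have hadd : ∀ z z' r : Fin 3 → F, herm q (z + z') r = herm q z r + herm q z' r := fun z z' r => by
      simp only [herm_apply, Cfsg.hermForm]
      rw [← Finset.sum_add_distrib]
      refine Finset.sum_congr rfl fun i _ => ?_
      rw [Pi.add_apply, Classical.qpow_add hF, mul_add]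
    have e1 : herm q y v = (herm q v y) ^ q := herm_symm hF v y
    have e2 : herm q y u = (herm q u y) ^ q := herm_symm hF u y
    have hq1 : ∀ z : F, (a - 1) ^ q * z ^ q = (a - 1) * z ^ q := fun z => by
      rw [Classical.qpow_sub hF, haq, one_pow]
    have hq2 : ∀ z : F, (a⁻¹ - 1) ^ q * z ^ q = (a⁻¹ - 1) * z ^ q := fun z => by
      rw [Classical.qpow_sub hF, inv_pow, haq, one_pow]
    rw [hM, hM]
    simp only [hadd, map_add, herm_smul hF, map_smul, smul_eq_mul, mul_pow, hq1, hq2, e1, e2, hvv, hvu,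
      huu, huv]
    linear_combination ((herm q u x) * (herm q v y) ^ q + (herm q v x) * (herm q u y) ^ q) *
      (mul_inv_cancel₀ ha)
  exact ⟨⟨⟨M, hdet⟩, hform⟩, hM⟩

theorem good_SU {k : ℕ} (hk : k ≠ 0) (hqk : q = p ^ k) (h5 : 5 ≤ p) : Good p (Cfsg.SU 3 F q) := by
  classical
  have hp2 : p ≠ 2 := by omega
  obtain ⟨h20, h21, h24, h2p⟩ := two_facts (F := F) h5
  have hq := Forms.two_le_of_card_sq hF
  -- Sylow subgroups have order `q ^ 3`
  have hcard : ∀ S : Sylow p (Cfsg.SU 3 F q), Nat.card S = q ^ 3 := by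
    intro S
    rw [S.card_eq_multiplicity, card_SU_three hF, Nat.factorization_mul (pow_ne_zero _ (by omega))
      (Nat.mul_ne_zero (by have := Nat.pow_le_pow_left hq 2; omega) (by omega)), Finsupp.add_apply]
    have hnd : ¬ p ∣ (q ^ 2 - 1) * (q ^ 3 + 1) := by
      have hpq : p ∣ q := hqk ▸ dvd_pow_self p hk
      rw [hp.out.dvd_mul]
      rintro (h | h)
      · have h' : p ∣ q ^ 2 := hpq.trans (dvd_pow_self q (by norm_num))
        have := Nat.dvd_sub h' h
        rw [Nat.sub_sub_self (Nat.one_le_pow _ _ (by omega))] at this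
        exact hp.out.not_dvd_one this
      · exact hp.out.not_dvd_one ((Nat.dvd_add_right (hpq.trans (dvd_pow_self q (by norm_num)))).1 h)
    rw [Nat.factorization_eq_zero_of_not_dvd hnd, add_zero, hqk, ← pow_mul,
      hp.out.factorization_pow, Finsupp.single_eq_same]
  have hne1 : ∀ S : Sylow p (Cfsg.SU 3 F q), (S : Subgroup (Cfsg.SU 3 F q)) ≠ ⊥ := fun S h => by
    have h' : Nat.card (S : Subgroup (Cfsg.SU 3 F q)) = q ^ 3 := hcard S
    rw [h, Subgroup.card_bot] at h'
    have := Nat.pow_le_pow_left hq 3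
    omega
  have hvec : ∀ S : Sylow p (Cfsg.SU 3 F q), ∃ w : Fin 3 → F, w ≠ 0 ∧ herm q w w = 0 ∧ ∀ g ∈ S, act g w = w :=
    fun S => exists_isotropic_fixed hF (S : Subgroup _) S.2 (hne1 S)
  have hpk : ∀ (S : Sylow p (Cfsg.SU 3 F q)) (g : Cfsg.SU 3 F q), g ∈ S → ∃ n, g ^ p ^ n = 1 :=
    fun S g hg => by obtain ⟨n, hn⟩ := S.2 ⟨g, hg⟩; exact ⟨n, congrArg Subtype.val hn⟩
  have hactinj : ∀ (g : Cfsg.SU 3 F q) (x : Fin 3 → F), act g⁻¹ (act g x) = x := fun g x => by
    rw [← act_mul, inv_mul_cancel, act_one]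
  -- moving a fixed vector
  have hmove : ∀ (S : Sylow p (Cfsg.SU 3 F q)) (g : Cfsg.SU 3 F q) (w : Fin 3 → F),
      (∀ x ∈ S, act x w = w) → ∀ x ∈ g • S, act x (act g w) = act g w := by
    intro S g w hS x hx
    have := hS _ ((mem_smul_iff g S x).1 hx)
    calc act x (act g w) = act g (act (g⁻¹ * x * g) w) := by
          rw [← act_mul, ← act_mul]; congr 1; group
      _ = act g w := by rw [this]
  have hsame : ∀ (S T : Sylow p (Cfsg.SU 3 F q)) (w : Fin 3 → F) (c : F), w ≠ 0 → herm q w w = 0 → c ≠ 0 →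
      (∀ x ∈ S, act x w = w) → (∀ x ∈ T, act x (c • w) = c • w) → S = T := by
    intro S T w c hw0 hww hc hS hT
    refine Sylow.ext ?_
    rw [sylow_eq_radical hF hp2 S hw0 hww hS, sylow_eq_radical hF hp2 T hw0 hww fun x hx => by
      have := hT x hx
      rw [act_smul] at this
      exact smul_right_injective _ hc this]
  obtain ⟨U₀⟩ : Nonempty (Sylow p (Cfsg.SU 3 F q)) := inferInstance
  obtain ⟨v, hv0, hvv, hfv⟩ := hvec U₀
  let Ω := {u : Fin 3 → F // herm q u u = 0 ∧ herm q v u = 1}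
  -- scaling vectors into `Ω`
  have hscale : ∀ V : Sylow p (Cfsg.SU 3 F q), V ≠ U₀ → ∃ u : Ω, ∀ x ∈ V, act x u.1 = u.1 := by
    intro V hV
    obtain ⟨w, hw0, hww, hfw⟩ := hvec V
    have hne : herm q v w ≠ 0 := fun h => by
      obtain ⟨c, rfl⟩ := proportional hF hv0 hvv hww h
      exact hV (hsame U₀ V v c hv0 hvv (fun e => hw0 (by rw [e, zero_smul])) hfv hfw).symm
    refine ⟨⟨(herm q v w)⁻¹ • w, ?_, ?_⟩, fun x hx => by rw [act_smul, hfw x hx]⟩
    · rw [map_smul, herm_smul hF, hww, mul_zero, smul_zero]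
    · rw [map_smul, smul_eq_mul, inv_mul_cancel₀ hne]
  have hne : ∀ u : Ω, u.1 ≠ 0 := fun u e => by
    have := u.2.2
    rw [e, map_zero] at this
    exact zero_ne_one this
  have hind : ∀ (u : Ω) (c : F), u.1 ≠ c • v := fun u c e => by
    have := u.2.2
    rw [e, map_smul, hvv, smul_zero] at this
    exact zero_ne_one this
  have hregular : ∀ u u' : Ω, ∃ g ∈ U₀, act g u.1 = u'.1 := by
    intro u u'
    let f : ↥(U₀ : Subgroup (Cfsg.SU 3 F q)) → Ω := fun g => ⟨act (g : Cfsg.SU 3 F q) u.1,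
      (herm_act _ _ _).trans u.2.1, by
        have := herm_act (g : Cfsg.SU 3 F q) u.1 v
        rw [hfv _ g.2] at this
        exact this.trans u.2.2⟩
    have hf : Function.Injective f := by
      intro a b e
      have e' : act (a : Cfsg.SU 3 F q) u.1 = act (b : Cfsg.SU 3 F q) u.1 := congrArg Subtype.val e
      obtain ⟨n, hn⟩ := hpk U₀ _ (b⁻¹ * a).2
      have := eq_one_of_fix_isotropic hF hn hv0 hvv u.2.1 (hind u) (hfv _ (b⁻¹ * a).2)
        (show act ((b : Cfsg.SU 3 F q)⁻¹ * (a : Cfsg.SU 3 F q)) u.1 = u.1 by rw [act_mul, e', hactinj])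
      exact (inv_mul_eq_one.1 (Subtype.ext this : b⁻¹ * a = 1)).symm
    obtain ⟨g, hg⟩ := (Function.Injective.bijective_of_nat_card_le hf
      (by rw [card_partner hF hv0 hvv, hcard U₀])).2 u'
    exact ⟨g, g.2, congrArg Subtype.val hg⟩
  -- generation by transvections
  have hgen : Subgroup.closure {x : Cfsg.SU 3 F q | ∃ n : ℕ, x ^ p ^ n = 1} = ⊤ := by
    rw [eq_top_iff, ← Classical.closure_transvections_SU hF 1 le_rfl
      (by rintro ⟨-, rfl⟩; have := Nat.le_self_pow hk p; omega)]
    apply Subgroup.closure_mono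
    rintro A ⟨w, c, hw, hA⟩
    have hpow : ∀ (n : ℕ) (x : Fin 3 → F),
        act (A ^ n) x = x + ((n : F) * (c * Cfsg.hermForm 3 F q x w)) • w := by
      intro n x
      induction n with
      | zero => simp [act_one]
      | succ n ih =>
        have hA' : ∀ y, act A y = y + (c * Cfsg.hermForm 3 F q y w) • w := fun y => by
          show (A.1.1 : Matrix (Fin 3) (Fin 3) F) *ᵥ y = _
          rw [hA, Forms.unitaryTransvection_mulVec]
        rw [pow_succ', act_mul, ih, hA']
        have : Cfsg.hermForm 3 F q (x + ((n : F) * (c * Cfsg.hermForm 3 F q x w)) • w) w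
            = Cfsg.hermForm 3 F q x w := by
          rw [herm_add_left, herm_smul_left, hw, mul_zero, add_zero]
        rw [this, Nat.cast_succ, add_mul, one_mul, add_smul, add_assoc]
    refine ⟨1, act_ext _ fun x => ?_⟩
    rw [pow_one, hpow, CharP.cast_eq_zero, zero_mul, zero_smul, add_zero]
  -- a second Sylow subgroup
  obtain ⟨V₀, hV₀⟩ : ∃ V₀ : Sylow p (Cfsg.SU 3 F q), V₀ ≠ U₀ := by
    by_contra hall
    push Not at hall
    have hle : (⊤ : Subgroup (Cfsg.SU 3 F q)) ≤ U₀ := by
      rw [← hgen, Subgroup.closure_le]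
      rintro x ⟨n, hn⟩
      obtain ⟨m, -, hm⟩ := (Nat.dvd_prime_pow hp.out).1 (orderOf_dvd_of_pow_eq_one hn)
      obtain ⟨W, hW⟩ := (IsPGroup.of_card (n := m)
        (by rw [Nat.card_zpowers, hm] : Nat.card (Subgroup.zpowers x) = p ^ m)).exists_le_sylow
      exact hall W ▸ hW (Subgroup.mem_zpowers x)
    have := Subgroup.card_le_of_le hle
    rw [Subgroup.card_top, hcard U₀, card_SU_three hF] at this
    have h1 : 1 < (q ^ 2 - 1) * (q ^ 3 + 1) := by
      have h2 := Nat.pow_le_pow_left hq 2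
      have h3 := Nat.pow_le_pow_left hq 3
      calc 1 < 3 * 9 := by norm_num
        _ ≤ _ := Nat.mul_le_mul (by omega) (by omega)
    nlinarith [Nat.pow_pos (n := 3) (show 0 < q by omega)]
  obtain ⟨u₀, hfu⟩ := hscale V₀ hV₀
  -- the stabiliser of the point `v`
  have hnorm : ∀ g : Cfsg.SU 3 F q, g • U₀ = U₀ ↔ ∃ l : F, act g v = l • v := by
    intro g
    constructor
    · intro hg
      by_contra hne'
      push Not at hne'
      apply hne1 U₀
      rw [Subgroup.eq_bot_iff_forall]
      intro x hx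
      obtain ⟨n, hn⟩ := hpk U₀ x hx
      refine eq_one_of_fix_isotropic hF hn hv0 hvv ((herm_act g v v).trans hvv) hne' (hfv x hx)
        (hmove U₀ g v hfv x (by rw [hg]; exact hx))
    · rintro ⟨l, hl⟩
      refine (hsame U₀ (g • U₀) v l hv0 hvv ?_ hfv fun x hx => hl ▸ hmove U₀ g v hfv x hx).symm
      intro hl0
      rw [hl0, zero_smul] at hl
      exact hv0 (by rw [← hactinj g v, hl]; simp [act])
  have hker : ∀ g : Cfsg.SU 3 F q, act g v = v → g ∈ U₀ := by
    intro g hg
    let u' : Ω := ⟨act g u₀.1, (herm_act _ _ _).trans u₀.2.1, by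
      have := herm_act g u₀.1 v
      rw [hg] at this
      exact this.trans u₀.2.2⟩
    obtain ⟨a, ha, hau⟩ := hregular u₀ u'
    have := eq_one_of_fix hF (a⁻¹ * g) hvv u₀.2.1 u₀.2.2
      (by rw [act_mul, hg]; exact hfv _ (Subgroup.inv_mem _ ha))
      (by rw [act_mul, show act g u₀.1 = act a u₀.1 from hau.symm, hactinj])
    rw [← inv_mul_eq_one.1 this]
    exact ha
  -- the torus element
  have h2q : (2 : F) ^ q = 2 := by
    rw [hqk]
    exact_mod_cast (iterateFrobenius_def (R := F) p k (2 : F)).symm.trans (map_ofNat _ 2)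
  obtain ⟨t, ht⟩ := exists_torus_elt hF hvv u₀.2.1 u₀.2.2 h20 h2q
  have huv : herm q u₀.1 v = 1 := by rw [herm_symm hF, u₀.2.2, one_pow]
  have htv : act t v = (2 : F) • v := by
    rw [ht, huv, hvv, mul_zero, zero_smul, add_zero, mul_one, ← one_smul F v, smul_smul, ← add_smul]
    norm_num
  have htu : act t u₀.1 = (2 : F)⁻¹ • u₀.1 := by
    rw [ht, u₀.2.1, u₀.2.2, mul_zero, zero_smul, add_zero, mul_one]
    conv_lhs => arg 1; rw [← one_smul F u₀.1]
    rw [← add_smul]; congr 1; ring
  -- the generator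
  let K : Subgroup Fˣ :=
    { carrier := {l | ∃ g : Cfsg.SU 3 F q, act g v = (l : F) • v}
      one_mem' := ⟨1, by rw [act_one]; simp⟩
      mul_mem' := fun {a b} ⟨g, hg⟩ ⟨g', hg'⟩ => ⟨g * g', by
        rw [act_mul, hg', act_smul, hg, smul_smul, Units.val_mul, mul_comm]⟩
      inv_mem' := fun {a} ⟨g, hg⟩ => ⟨g⁻¹, by
        conv_rhs => rw [← hactinj g v, hg, act_smul, smul_smul, Units.inv_mul, one_smul]⟩ }
  obtain ⟨⟨l₀, c, hc⟩, hl₀⟩ := IsCyclic.exists_generator (α := K)
  have hcpow : ∀ i : ℤ, act (c ^ i) v = ((l₀ ^ i : Fˣ) : F) • v := by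
    intro i
    induction i with
    | zero => simp [act_one]
    | succ n ih => rw [_root_.zpow_add_one, _root_.zpow_add_one, act_mul, hc, act_smul, ih, smul_smul, Units.val_mul, mul_comm]
    | pred n ih =>
      rw [_root_.zpow_sub_one, _root_.zpow_sub_one, act_mul]
      conv_lhs => arg 2; rw [show v = (↑l₀⁻¹ : F) • act c v by rw [hc, smul_smul, Units.inv_mul, one_smul],
        act_smul, hactinj]
      rw [act_smul, ih, smul_smul, Units.val_mul, mul_comm]
  refine good_of_base U₀ V₀ hV₀ hgen ?_ ?_ t c ((hnorm t).2 ⟨_, htv⟩) ?_ ?_ ?_ ((hnorm c).2 ⟨_, hc⟩) ?_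
  · intro V hV x hx hxV
    by_contra hx1
    exact hV (sylow_unique hF hp2 (Subgroup.zpowers x) (U₀.2.to_le (Subgroup.zpowers_le.2 hx))
      (by simpa using hx1) U₀ V (Subgroup.zpowers_le.2 hx) (Subgroup.zpowers_le.2 hxV)).symm
  · intro V hV
    obtain ⟨u, hu⟩ := hscale V hV
    obtain ⟨g, hg, hgu⟩ := hregular u₀ u
    refine ⟨g, hg, hsame _ V u.1 1 (hne u) u.2.1 one_ne_zero (hgu ▸ hmove V₀ g u₀.1 hfu) ?_⟩
    simpa only [one_smul] using hu
  · refine (hsame V₀ (t • V₀) u₀.1 (2 : F)⁻¹ (hne u₀) u₀.2.1 (inv_ne_zero h20) hfu ?_).symm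
    rw [← htu]
    exact hmove V₀ t u₀.1 hfu
  · refine hker _ ?_
    have hn : ∀ n : ℕ, act (t ^ n) v = ((2 : F) ^ n) • v := fun n => by
      induction n with
      | zero => simp [act_one]
      | succ n ih => rw [pow_succ', act_mul, ih, act_smul, htv, smul_smul, pow_succ]
    rw [hn, show ((2 : F) ^ (p - 1)) = 1 by exact_mod_cast h2p, one_smul]
  · intro x hx hcomm
    obtain ⟨n, hn⟩ := hpk U₀ x hx
    set w := act x u₀.1 with hw
    have hvw : herm q v w = 1 := by
      have := herm_act x u₀.1 v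
      rw [hfv x hx] at this
      exact this.trans u₀.2.2
    have e : act t w = (2 : F)⁻¹ • w := by
      rw [hw, ← act_mul, hcomm, act_mul, htu, act_smul]
    rw [ht, hvw, mul_one] at e
    obtain ⟨κ, hκ⟩ : ∃ κ : F, w = u₀.1 + κ • v := by
      have h1 : (1 - (2 : F)⁻¹) • (w - u₀.1) + ((2 - 1) * herm q u₀.1 w) • v = 0 := by
        rw [smul_sub, sub_smul, sub_smul, one_smul, one_smul]
        rw [sub_smul, one_smul] at e
        linear_combination (norm := module) e
      have hne0 : (1 - (2 : F)⁻¹) ≠ 0 := sub_ne_zero.2 (fun h => h21 (inv_eq_one.1 h.symm))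
      refine ⟨-((1 - (2 : F)⁻¹)⁻¹ * ((2 - 1) * herm q u₀.1 w)), ?_⟩
      rw [add_eq_zero_iff_eq_neg, ← eq_inv_smul_iff₀ hne0, smul_neg, smul_smul, ← neg_smul,
        sub_eq_iff_eq_add, add_comm] at h1
      exact h1
    rw [hκ] at e
    have h2 := congrArg (herm q u₀.1) e
    simp only [map_add, map_smul, smul_eq_mul, u₀.2.1, huv] at h2
    have hκ0 : κ = 0 := by
      have h3 : ((2 : F) ^ 2 - 1) * κ = 0 := by
        have h4 := mul_inv_cancel₀ h20
        linear_combination (2 : F) * h2 + κ * h4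
      exact (mul_eq_zero.1 h3).resolve_left (sub_ne_zero.2 h24)
    rw [hκ0, zero_smul, add_zero] at hκ
    exact eq_one_of_fix_isotropic hF hn hv0 hvv u₀.2.1 (hind u₀) (hfv x hx) hκ
  · intro x hx
    obtain ⟨l, hl⟩ := (hnorm x).1 hx
    have hl0 : l ≠ 0 := fun e => hv0 (by rw [← hactinj x v, hl, e, zero_smul]; simp [act])
    obtain ⟨i, hi⟩ := Subgroup.mem_zpowers_iff.1 (hl₀ ⟨Units.mk0 l hl0, x, hl⟩)
    have hi' : l₀ ^ i = Units.mk0 l hl0 := congrArg Subtype.val hi
    refine ⟨i, hker _ ?_⟩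
    rw [act_mul, hl]
    conv_rhs => rw [← hactinj (c ^ i) v, hcpow, hi']
    rfl

end Cfsg.Agent.Lib.IsolatedRankOne
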